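import Cfsg.Agent.Lib.M23Struct19.Quot
import Cfsg.Agent.Lib.M22Struct66.Main
import Cfsg.Agent.Lib.M22Struct66.Order

/-!
# A 3-transposition class whose member centralisers are quasisimple over groups of type M(22)

No clause about the common neighbours of a non-commuting pair is assumed.  The group is simple, the class
primitive and the centraliser of a member transitive on the members not commuting with it.
-/

set_option autoImplicit false
set_option linter.unusedSectionVars false

namespace Cfsg.Agent.Lib.Fischer3T52.TwentyThree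

open Cfsg Cfsg.Agent.Lib.ThreeTransp Cfsg.Agent.Lib.ThreeTransp.Products Cfsg.Agent.Lib.Components
open Cfsg.Agent.Lib.M22Struct66 (nb com2)
open Cfsg.Agent.Lib.M23Struct19 (img img_commute img_inj quot_group primitive_of_m22)

variable {G : Type*} [Group G] [Finite G] {D : Set G}

/-- The hypotheses. -/
structure Local23 (D : Set G) : Prop where
  grp : IsThreeTranspositionGroup D
  one_class : ∀ a ∈ D, ∀ b ∈ D, ∃ g, g * a * g⁻¹ = b
  two : ∃ a ∈ D, ∃ b ∈ D, a ≠ b
  cent : ∀ d ∈ D, Subgroup.centralizer ({d} : Set G) = Subgroup.closure (nb D d)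
  perfect : ∀ d ∈ D, commutator ↥(Subgroup.closure (nb D d)) = ⊤
  central : ∀ d ∈ D, ∀ z ∈ Subgroup.closure (nb D d), (∀ s ∈ nb D d, Commute s z) → z = 1 ∨ z = d
  quot22 : ∀ d ∈ D, IsOfTypeM22 (↥(Subgroup.closure (nb D d)) ⧸ Subgroup.center ↥(Subgroup.closure (nb D d)))
    (nbrImage D d)

namespace Local23

variable (hD : Local23 D)
include hD

theorem set : IsThreeTranspositionSet D := hD.grp.1

theorem conj : ∀ g : G, ∀ d ∈ D, g * d * g⁻¹ ∈ D := hD.grp.2.1

theorem exists_nb {d : G} (hd : d ∈ D) : ∃ e, e ∈ nb D d := by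
  obtain ⟨-, b, ⟨x, hx, -⟩, -⟩ := hD.quot22 d hd
  exact ⟨x, hx⟩

theorem self_mem {d : G} (hd : d ∈ D) : d ∈ Subgroup.closure (nb D d) :=
  hD.cent d hd ▸ Subgroup.mem_centralizer_singleton_iff.2 rfl

theorem center : Subgroup.center G = ⊥ := by
  rw [Subgroup.eq_bot_iff_forall]
  intro z hz
  obtain ⟨a, ha, b, hb, hab⟩ := hD.two
  have hzc : ∀ x, Commute x z := fun x => (Subgroup.mem_center_iff.1 hz x)
  rcases hD.central a ha z (hD.cent a ha ▸ Subgroup.mem_centralizer_singleton_iff.2 (hzc a).eq.symm)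
    fun s _ => hzc s with h | h
  · exact h
  · subst h
    obtain ⟨g, hg⟩ := hD.one_class z ha b hb
    rw [(hzc g).eq, mul_inv_cancel_right] at hg
    exact absurd hg hab

theorem exists_outside {d : G} (hd : d ∈ D) : ∃ c ∈ D, ¬ Commute d c := by
  by_contra! h
  have hz := mem_center_of_forall_commute hD.grp.2.2 h
  rw [hD.center, Subgroup.mem_bot] at hz
  exact ne_one hD.set hd hz

theorem eq_of_central_nb {a b : G} (ha : a ∈ D) (hb : b ∈ D) (hab : Commute a b)
    (h : ∀ s ∈ nb D a, Commute s b) : a = b := by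
  rcases hD.central a ha b (hD.cent a ha ▸ Subgroup.mem_centralizer_singleton_iff.2 hab.eq.symm) h with e | e
  · exact absurd e (ne_one hD.set hb)
  · exact e.symm

theorem reduced : ∀ a ∈ D, ∀ b ∈ D, (∀ e ∈ D, Commute a e ↔ Commute b e) → a = b := fun a ha b hb h =>
  hD.eq_of_central_nb ha hb ((h b hb).2 (Commute.refl b)) fun s hs => ((h s hs.1).1 hs.2.2).symm

theorem eq_of_nb_eq {a b : G} (ha : a ∈ D) (hb : b ∈ D) (h : nb D a = nb D b) : a = b := by
  have hab : Commute a b := by
    have h1 := hD.self_mem ha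
    rw [h, ← hD.cent b hb] at h1
    exact Subgroup.mem_centralizer_singleton_iff.1 h1
  exact hD.eq_of_central_nb ha hb hab fun s hs => ((h ▸ hs : s ∈ nb D b)).2.2.symm

theorem center_nbGroup {d : G} (hd : d ∈ D) :
    Subgroup.center ↥(Subgroup.closure (nb D d)) =
      (Subgroup.zpowers d).subgroupOf (Subgroup.closure (nb D d)) := by
  ext z
  rw [Subgroup.mem_subgroupOf]
  constructor
  · intro hz
    rcases hD.central d hd z z.2 fun s hs =>
        congrArg Subtype.val (Subgroup.mem_center_iff.1 hz ⟨s, Subgroup.subset_closure hs⟩) with h | h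
    · rw [h]; exact one_mem _
    · rw [h]; exact Subgroup.mem_zpowers d
  · intro hz
    obtain ⟨n, hn⟩ := Subgroup.mem_zpowers_iff.1 hz
    rw [Subgroup.mem_center_iff]
    intro x
    refine Subtype.ext ?_
    have hxd : Commute (x : G) d :=
      Subgroup.mem_centralizer_singleton_iff.1 (closure_nbr_le D d x.2)
    rw [Subgroup.coe_mul, Subgroup.coe_mul, ← hn]
    exact (hxd.zpow_right n).eq

theorem minimal : ∀ N : Subgroup G, N.Normal → ∀ x ∈ D, x ∈ N → N = ⊤ := fun N hN x hx hxN =>
  top_le_iff.1 (hD.grp.2.2 ▸ (Subgroup.closure_le _).2 fun y hy => by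
    obtain ⟨g, rfl⟩ := hD.one_class x hx y hy
    exact hN.conj_mem x hxN g)

theorem pre_quot {d : G} (hd : d ∈ D) :
    IsThreeTranspositionGroup (nbrImage D d) := by
  have hP := nbrImage_pre (pre_of_group hD.grp) d
  have hcore : core (nbrImage D d) = nbrImage D d := by
    ext U
    refine ⟨fun hU => hU.1, fun hU => ⟨hU, ?_⟩⟩
    obtain ⟨⟨x, hx'⟩, hx, rfl⟩ := hU
    intro h1
    have hz := (QuotientGroup.eq_one_iff _).1 h1
    rcases hD.central d hd x hx' fun s hs =>
        congrArg Subtype.val (Subgroup.mem_center_iff.1 hz ⟨s, Subgroup.subset_closure hs⟩) with h | h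
    · exact ne_one hD.set hx.1 h
    · exact hx.2.1 h
  exact ⟨hcore ▸ hP.isSet, hP.conj_mem, hP.gen⟩

theorem exists_counted {d : G} (hd : d ∈ D) :
    ∃ (F : Type) (_ : Field F) (_ : Fintype F), M22Struct66.Counted (nbrImage D d) F :=
  M22Struct66.exists_counted (hD.pre_quot hd) (primitive_of_m22 (hD.pre_quot hd) (hD.quot22 d hd))
    (hD.quot22 d hd)

theorem good : Good D where
  center := hD.center
  reduced := hD.reduced
  minimal := hD.minimal
  big := by
    obtain ⟨a, ha, -⟩ := hD.two
    obtain ⟨F, _, _, hQ⟩ := hD.exists_counted ha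
    refine dvd_trans ?_ (Subgroup.card_subgroup_dvd_card (Subgroup.closure (nb D a)))
    rw [Subgroup.card_eq_card_quotient_mul_card_subgroup (Subgroup.center ↥(Subgroup.closure (nb D a)))]
    refine dvd_mul_of_dvd_left ?_ _
    have := hQ.card_G
    rw [this]
    norm_num

/-- The neighbours of a member form one class of its centraliser. -/
theorem transitive_nb {d x y : G} (hd : d ∈ D) (hx : x ∈ nb D d) (hy : y ∈ nb D d) :
    ∃ g ∈ Subgroup.closure (nb D d), g * x * g⁻¹ = y := by
  have hE := quot_group hD.grp hD.good hd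
  obtain ⟨U, hU⟩ := (primitive_of_m22 hE (hD.quot22 d hd)).1 (img hx) ⟨_, hx, rfl⟩ (img hy) ⟨_, hy, rfl⟩
  obtain ⟨g, rfl⟩ := QuotientGroup.mk_surjective U
  have hgd : (g : G) * d * (g : G)⁻¹ = d := by
    rw [Subgroup.mem_centralizer_singleton_iff.1 (closure_nbr_le D d g.2), mul_inv_cancel_right]
  have hgx : (g : G) * x * (g : G)⁻¹ ∈ nb D d := by
    have := nbr_conj_image hD.grp (g : G) d ▸ Set.mem_image_of_mem (MulAut.conj (g : G)).toMonoidHom hx
    rwa [hgd] at this
  refine ⟨g, g.2, img_inj hD.grp hD.good hd hgx hy ?_⟩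
  rw [← hU]
  rfl

theorem isClass : IsThreeTranspositionClass D := by
  obtain ⟨a, ha, -⟩ := hD.two
  refine ⟨hD.set, ⟨a, ha, Set.Subset.antisymm (fun x hx => isConj_iff.2 (hD.one_class a ha x hx)) ?_⟩, hD.grp.2.2⟩
  intro x hx
  obtain ⟨g, rfl⟩ := isConj_iff.mp hx
  exact hD.conj g a ha

theorem cores : pCore 2 G = ⊥ ∧ pCore 3 G = ⊥ := by
  have key : ∀ N : Subgroup G, (∀ g ∈ N, ∀ d ∈ D, g * d * g⁻¹ = d) → N = ⊥ := fun N h =>
    le_bot_iff.1 (hD.center ▸ fun g hg => mem_center_of_forall_commute hD.grp.2.2 fun d hd =>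
      mul_inv_eq_iff_eq_mul.1 (h g hg d hd))
  have hmem : ∀ (p : ℕ) (g : G), g ∈ pCore p G → ∀ d ∈ D, d⁻¹ * (g * d * g⁻¹) ∈ pCore p G := by
    intro p g hg d hd
    have : d⁻¹ * (g * d * g⁻¹) = (d⁻¹ * g * d) * g⁻¹ := by simp [mul_assoc]
    rw [this]
    exact mul_mem ((inferInstance : (pCore p G).Normal).conj_mem' g hg d) (inv_mem hg)
  constructor
  · refine key _ fun g hg d hd => ?_
    have hv := mem_vSet_of_inv_mul_mem hD.set Lib.PSolvable.pCore_isPGroup hd (hD.conj g d hd) (hmem 2 g hg d hd)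
    exact hD.reduced _ hv.1 d hd hv.2
  · refine key _ fun g hg d hd => ?_
    have hw := mem_wSet_of_inv_mul_mem hD.set Lib.PSolvable.pCore_isPGroup hd (hD.conj g d hd) (hmem 3 g hg d hd)
    exact hD.eq_of_nb_eq hw.1 hd hw.2.symm

theorem cores_central : pCore 2 G ≤ Subgroup.center G ∧ pCore 3 G ≤ Subgroup.center G :=
  ⟨hD.cores.1.symm ▸ bot_le, hD.cores.2.symm ▸ bot_le⟩

theorem component_top {L : Subgroup G} (hL : IsComponent L) : L = ⊤ := by
  have hcl := hD.isClass
  have hLn := component_normal hcl hL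
  obtain ⟨d, hd, -⟩ := hD.two
  refine hD.minimal L hLn d hd ?_
  set q := QuotientGroup.mk' L
  have heq : ∀ s ∈ nb D d, q s = q d := fun s hs => by
    have := inv_mul_mem_component hcl hL hd hs.1 (by
      rw [hs.2.2.eq, mul_inv_cancel_right, mul_inv_cancel]; exact one_mem L)
    exact (QuotientGroup.eq.2 this).symm
  have hcy : ∀ x ∈ Subgroup.closure (nb D d), ∃ n : ℤ, q x = q d ^ n := by
    intro x hx
    induction hx using Subgroup.closure_induction with
    | mem y hy => exact ⟨1, by rw [zpow_one, heq y hy]⟩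
    | one => exact ⟨0, by rw [zpow_zero, map_one]⟩
    | mul u v _ _ iu iv =>
      obtain ⟨m, hm⟩ := iu
      obtain ⟨n, hn⟩ := iv
      exact ⟨m + n, by rw [map_mul, hm, hn, zpow_add]⟩
    | inv u _ iu =>
      obtain ⟨m, hm⟩ := iu
      exact ⟨-m, by rw [map_inv, hm, zpow_neg]⟩
  have hdc : (⟨d, hD.self_mem hd⟩ : ↥(Subgroup.closure (nb D d))) ∈ (q.comp (Subgroup.closure (nb D d)).subtype).ker := by
    refine (show commutator ↥(Subgroup.closure (nb D d)) ≤ _ from ?_) (hD.perfect d hd ▸ Subgroup.mem_top _)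
    rw [commutator_def, Subgroup.commutator_le]
    intro a _ b _
    obtain ⟨m, hm⟩ := hcy a a.2
    obtain ⟨n, hn⟩ := hcy b b.2
    rw [MonoidHom.mem_ker, map_commutatorElement, commutatorElement_eq_one_iff_mul_comm]
    show q a * q b = q b * q a
    rw [hm, hn, ← zpow_add, ← zpow_add, add_comm]
  exact (QuotientGroup.eq_one_iff d).1 hdc

theorem exists_component_eq_top : IsComponent (⊤ : Subgroup G) := by
  obtain ⟨L, hL⟩ := exists_component hD.isClass hD.two hD.cores_central.1 hD.cores_central.2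
  exact hD.component_top hL ▸ hL

theorem isSimple : IsSimpleGroup G := by
  have hL := hD.exists_component_eq_top
  have hsimp : IsSimpleGroup (↥(⊤ : Subgroup G) ⧸ Subgroup.center ↥(⊤ : Subgroup G)) := hL.2.2
  have hZ : Subgroup.center ↥(⊤ : Subgroup G) = ⊥ := by
    rw [Subgroup.eq_bot_iff_forall]
    intro z hz
    refine Subtype.ext ?_
    have : (z : G) ∈ Subgroup.center G :=
      Subgroup.mem_center_iff.2 fun g => congrArg Subtype.val (Subgroup.mem_center_iff.1 hz ⟨g, trivial⟩)
    rw [hD.center, Subgroup.mem_bot] at this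
    exact this
  haveI := hsimp
  exact ((QuotientGroup.quotientMulEquivOfEq hZ).trans
    (QuotientGroup.quotientBot.trans Subgroup.topEquiv)).symm.isSimpleGroup

theorem prim : IsPrimitiveUnderConj D :=
  primitive_of_index_le_two hD.isClass hD.two hD.cores_central.1 hD.cores_central.2 hD.exists_component_eq_top
    (by rw [Subgroup.index_top]; norm_num)

/-- The centraliser of `d` is transitive on the members not commuting with it. -/
theorem transitive_outside {d y y' : G} (hd : d ∈ D) (hy : y ∈ D) (hy' : y' ∈ D) (hdy : ¬ Commute d y)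
    (hdy' : ¬ Commute d y') : ∃ g, Commute g d ∧ g * y * g⁻¹ = y' := by
  haveI := hD.isSimple
  have htop : commutator G = ⊤ := by
    rcases (inferInstance : IsSimpleGroup G).eq_bot_or_eq_top_of_normal (commutator G) inferInstance with e | e
    · exfalso
      refine hdy ?_
      have := Subgroup.commutator_mem_commutator (Subgroup.mem_top d) (Subgroup.mem_top y)
      rw [← commutator_def, e, Subgroup.mem_bot] at this
      exact commutatorElement_eq_one_iff_mul_comm.1 this
    · exact e
  refine RankThree.sameOrbit_of_not_commute (fun N hN hs => ?_) (by rw [htop, ← commutator_def, htop])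
    hD.isClass ?_ hd hy hy' hdy hdy'
  · rcases (inferInstance : IsSimpleGroup G).eq_bot_or_eq_top_of_normal N hN with e | e
    · exact e
    · exfalso
      subst e
      haveI : Group.IsSolvable G := Group.isSolvable_of_surjective (f := (Subgroup.topEquiv (G := G)).toMonoidHom)
        (Subgroup.topEquiv (G := G)).surjective
      have := (inferInstance : Group.IsSolvable G).commutator_lt_top_of_nontrivial G
      exact this.ne htop
  · rw [htop]
    exact Subgroup.topEquiv.isSimpleGroup

end Local23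

end Cfsg.Agent.Lib.Fischer3T52.TwentyThree
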