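import Cfsg.Agent.Lib.Fischer3T52.TwentyThree.Count
import Cfsg.Agent.Lib.Fischer3T22.Config
import Cfsg.Agent.Lib.Fi22Unique49.Main
import Cfsg.Agent.S1697
import Cfsg.Prelude.Def_Spor_Fi23

/-!
# A group with the local hypotheses of type M(23) is the presented Fi23

In the quotient at a member `x` a Sylow 3-subgroup fixes a non-neighbour `j`; the 351 common neighbours of
`x` and `j` carry a configuration of Y342.
-/

set_option autoImplicit false
set_option linter.unusedSectionVars false

namespace Cfsg.Agent.Lib.Fischer3T52.TwentyThree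

open Cfsg Cfsg.Agent.Lib.ThreeTransp
open Cfsg.Agent.Lib.M22Struct66 (nb com2)
open Cfsg.Agent.Lib.M23Struct19 (img img_commute img_inj primitive_of_m22)
open Cfsg.Agent.Lib.CosetTable (eval)

/-- node number of a generator of Y342 other than `j` -/
def node : Spor.Fi23.Gen → ℕ
  | .a => 0 | .b => 1 | .c => 2 | .d => 3 | .e => 4 | .f => 5 | .g => 6 | .h => 7 | .i => 8 | .j => 9

theorem node_lt : ∀ y : Spor.Fi23.Gen, y ≠ .j → node y < 9 := by
  intro y hy; cases y <;> first | exact absurd rfl hy | decide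

theorem label_inner (y z : Spor.Fi23.Gen) (hy : y ≠ .j) (hz : z ≠ .j) :
    Spor.coxLabel Spor.Fi23.edges y z = Fischer3T22.lab9 (node y) (node z) := by
  cases y <;> cases z <;> first | exact absurd rfl hy | exact absurd rfl hz | rfl

theorem label_j (y : Spor.Fi23.Gen) (hy : y ≠ .j) :
    Spor.coxLabel Spor.Fi23.edges y .j = (if y = .g then 3 else 2) ∧
      Spor.coxLabel Spor.Fi23.edges .j y = (if y = .g then 3 else 2) := by
  cases y <;> first | exact absurd rfl hy | exact ⟨rfl, rfl⟩

variable {G : Type*} [Group G] [Finite G] {D : Set G}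

namespace Local23

variable (hD : Local23 D)
include hD

theorem ncard_nb' {d : G} (hd : d ∈ D) : (nb D d).ncard = 3510 := hD.ncard_nb hd

theorem card_G : Nat.card G = 4089470473293004800 := by
  obtain ⟨d, hd, -⟩ := hD.two
  obtain ⟨c, hc, hdc⟩ := hD.exists_outside hd
  have horb : (MulAction.orbit (ConjAct G) d : Set G) = D := by
    ext y
    constructor
    · rintro ⟨g, rfl⟩
      exact hD.conj _ d hd
    · intro hy
      obtain ⟨g, hg⟩ := hD.one_class d hd y hy
      exact ⟨ConjAct.toConjAct g, by simp [ConjAct.toConjAct_smul, hg]⟩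
  have hst : MulAction.stabilizer (ConjAct G) d =
      (Subgroup.centralizer ({d} : Set G)).map (ConjAct.toConjAct (G := G)).toMonoidHom := by
    ext g
    rw [MulAction.mem_stabilizer_iff, ConjAct.smul_def]
    constructor
    · intro hg
      exact ⟨ConjAct.ofConjAct g, Subgroup.mem_centralizer_singleton_iff.2
        (mul_inv_eq_iff_eq_mul.1 hg), rfl⟩
    · rintro ⟨a, ha, rfl⟩
      exact mul_inv_eq_iff_eq_mul.2 (Subgroup.mem_centralizer_singleton_iff.1 ha)
  have hDc : D.ncard = 31671 := by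
    rw [(hD.card_outside hd hc hdc).2, hD.ncard_outside hd hc hdc]
  have hC : Nat.card (Subgroup.centralizer ({d} : Set G)) = 129123503308800 := by
    obtain ⟨F, _, _, hQ⟩ := hD.exists_counted hd
    rw [hD.cent d hd, Subgroup.card_eq_card_quotient_mul_card_subgroup
      (Subgroup.center ↥(Subgroup.closure (nb D d))), hQ.card_G, hD.center_nbGroup hd,
      Nat.card_congr (Subgroup.subgroupOfEquivOfLe (Subgroup.zpowers_le.2 (hD.self_mem hd))).toEquiv,
      Nat.card_zpowers, hD.set.1 d hd]
    norm_num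
  have h1 := (MulAction.stabilizer (ConjAct G) d).index_mul_card
  rw [MulAction.index_stabilizer, horb, hDc, hst,
    Subgroup.card_map_of_injective (ConjAct.toConjAct (G := G)).injective, hC,
    Nat.card_congr ConjAct.ofConjAct.toEquiv] at h1
  rw [← h1]

/-- A 3-subgroup of the quotient at `x` lifts to one fixing a non-neighbour of `x`. -/
theorem exists_fixed_outside {x : G} (hx : x ∈ D)
    (R : Subgroup (↥(Subgroup.closure (nb D x)) ⧸ Subgroup.center ↥(Subgroup.closure (nb D x))))
    (hR : IsPGroup 3 R) :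
    ∃ j ∈ D, ¬ Commute x j ∧ ∀ r ∈ R, ∃ h : ↥(Subgroup.closure (nb D x)),
      QuotientGroup.mk h = r ∧ (h : G) * j * (h : G)⁻¹ = j := by
  classical
  haveI : Fact (Nat.Prime 3) := ⟨Nat.prime_three⟩
  set q := QuotientGroup.mk' (Subgroup.center ↥(Subgroup.closure (nb D x)))
  set H := R.comap q
  let f : ↥H →* ↥R := (q.comp H.subtype).codRestrict R fun h => h.2
  have hf : Function.Surjective f := fun r => by
    obtain ⟨h, hh⟩ := QuotientGroup.mk'_surjective _ r.1
    exact ⟨⟨h, show q h ∈ R by rw [show q h = r from hh]; exact r.2⟩, Subtype.ext hh⟩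
  obtain ⟨P⟩ : Nonempty (Sylow 3 ↥H) := inferInstance
  have htop : (P : Subgroup ↥H).map f = ⊤ :=
    ((P.mapSurjective hf).3
      (show IsPGroup 3 (⊤ : Subgroup ↥R) from hR.to_subgroup ⊤) le_top).symm
  let O : Type _ := {y : G // y ∈ D ∧ ¬ Commute x y}
  let v : ↥(P : Subgroup ↥H) → G := fun p => (((p : ↥H) : ↥(Subgroup.closure (nb D x))) : G)
  have hfix : ∀ p, v p * x * (v p)⁻¹ = x := fun p => by
    rw [Subgroup.mem_centralizer_singleton_iff.1 (Products.closure_nbr_le D x ((p : ↥H) : ↥(Subgroup.closure (nb D x))).2),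
      mul_inv_cancel_right]
  let _ : MulAction ↥(P : Subgroup ↥H) O :=
    { smul := fun p y => ⟨v p * y.1 * (v p)⁻¹, hD.conj _ _ y.2.1, fun h => y.2.2 ((commute_conj_iff (v p)).1 (by
        rw [hfix p]; exact h))⟩
      one_smul := fun y => Subtype.ext (by show v 1 * y.1 * (v 1)⁻¹ = y.1; simp [v])
      mul_smul := fun p p' y => Subtype.ext (by
        show v (p * p') * y.1 * (v (p * p'))⁻¹ = v p * (v p' * y.1 * (v p')⁻¹) * (v p)⁻¹
        simp [v, mul_assoc]) }
  obtain ⟨c, hc, hxc⟩ := hD.exists_outside hx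
  have hO : Nat.card O = 28160 :=
    (Nat.card_coe_set_eq {y | y ∈ D ∧ ¬ Commute x y}).trans (hD.ncard_outside hx hc hxc)
  obtain ⟨⟨j, hj, hxj⟩, hjfix⟩ := P.2.nonempty_fixed_point_of_prime_not_dvd_card O (by rw [hO]; norm_num)
  refine ⟨j, hj, hxj, fun r hr => ?_⟩
  obtain ⟨p, hp, hpr⟩ := htop.symm ▸ Subgroup.mem_top (⟨r, hr⟩ : ↥R)
  exact ⟨(p : ↥(Subgroup.closure (nb D x))), congrArg Subtype.val hpr,
    congrArg Subtype.val (hjfix ⟨p, hp⟩)⟩

/-- **The presented Fi23**, with the class of `a` going to the class. -/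
theorem exists_iso_fi23 : ∃ φ : Spor.Fi23 ≃* G, φ (PresentedGroup.of Spor.Fi23.Gen.a) ∈ D := by
  classical
  obtain ⟨x, hx, -⟩ := hD.two
  have hgood := hD.good
  have hE := hD.pre_quot hx
  have h22 := hD.quot22 x hx
  have hprim := primitive_of_m22 hE h22
  obtain ⟨e, he⟩ := Fi22Unique49.exists_iso_fi22 hE hprim h22
  set E := Products.nbrImage D x
  have he' : e (Fischer3T22.gn 0) ∈ E := he
  have hcls : e '' Fischer3T22.cls = E := by
    ext y
    constructor
    · rintro ⟨z, hz, rfl⟩
      obtain ⟨g, rfl⟩ := isConj_iff.1 hz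
      rw [map_mul, map_mul, map_inv]
      exact hE.2.1 _ _ he'
    · intro hy
      obtain ⟨g, rfl⟩ := hprim.1 _ he' y hy
      refine ⟨e.symm g * Fischer3T22.gn 0 * (e.symm g)⁻¹, isConj_iff.2 ⟨_, rfl⟩, ?_⟩
      rw [map_mul, map_mul, map_inv, MulEquiv.apply_symm_apply]
  have h3510 : Fischer3T22.cls.ncard = 3510 := by
    obtain ⟨F, _, _, hQ⟩ := hD.exists_counted hx
    rw [← Set.ncard_image_of_injective _ e.injective, hcls]
    exact hQ.ncard_D
  obtain ⟨R, hR, hcfg⟩ := Fischer3T22.exists_config h3510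
  obtain ⟨j, hj, hxj, hjfix⟩ := hD.exists_fixed_outside hx (R.map e.toMonoidHom) (hR.map _)
  -- the image of the common neighbours
  let I := {Y | ∃ (y : G) (hy : y ∈ nb D x), y ∈ nb D j ∧ img hy = Y}
  set T : Set Spor.Fi22 := e ⁻¹' I with hT
  have hTcls : T ⊆ Fischer3T22.cls := by
    rintro t ⟨y, hy, -, hye⟩
    obtain ⟨t', ht', hee⟩ := hcls.symm ▸ (show img hy ∈ E from hD.img_mem hx hy)
    rwa [← e.injective (hee.trans hye)]
  have hTcard : T.ncard = 351 := by
    have h1 : e '' T = I := Set.image_preimage_eq _ e.surjective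
    rw [← Set.ncard_image_of_injective _ e.injective, h1, ← hD.ncard_com2_not hx hj hxj]
    refine (hD.ncard_via_quot hx (com2 D x j) (fun y hy => hy.1) I ?_ fun y hy => ?_).symm
    · rintro _ ⟨y, hy, -, rfl⟩; exact hD.img_mem hx hy
    · exact ⟨fun h => ⟨y, hy, h.2, rfl⟩, fun ⟨y', hy', hj', h⟩ => ⟨hy, img_inj hD.grp hgood hx hy' hy h ▸ hj'⟩⟩
  have hTinv : ∀ r ∈ R, ∀ t ∈ T, r * t * r⁻¹ ∈ T := by
    rintro r hr t ⟨y, hy, hyj, hye⟩
    obtain ⟨h, hhr, hhj⟩ := hjfix (e r) ⟨r, hr, rfl⟩
    have hhx : (h : G) * x * (h : G)⁻¹ = x := by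
      rw [Subgroup.mem_centralizer_singleton_iff.1 (Products.closure_nbr_le D x h.2), mul_inv_cancel_right]
    have hy1 : (h : G) * y * (h : G)⁻¹ ∈ nb D x := by
      have := Products.nbr_conj_image hD.grp (h : G) x ▸ Set.mem_image_of_mem (MulAut.conj (h : G)).toMonoidHom hy
      rwa [hhx] at this
    have hy2 : (h : G) * y * (h : G)⁻¹ ∈ nb D j := by
      have := Products.nbr_conj_image hD.grp (h : G) j ▸ Set.mem_image_of_mem (MulAut.conj (h : G)).toMonoidHom hyj
      rwa [hhj] at this
    refine ⟨_, hy1, hy2, ?_⟩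
    rw [map_mul, map_mul, map_inv, ← hye, ← hhr]
    rfl
  obtain ⟨c, hc, hcox, hspider, hseven⟩ := hcfg T hTcls hTcard hTinv
  -- lifts
  have hlift : ∀ k, ∃ y, ∀ hk : k < 9, ∃ hy : y ∈ nb D x, img hy = e (c k) := by
    intro k
    by_cases hk : k < 9
    · obtain ⟨⟨y, hy'⟩, hy, hye⟩ := (hcls ▸ Set.mem_image_of_mem e (hc k hk).1 : e (c k) ∈ E)
      exact ⟨y, fun _ => ⟨hy, hye⟩⟩
    · exact ⟨x, fun h => absurd h hk⟩
  choose X hX using hlift
  have hXm : ∀ k, k < 9 → X k ∈ nb D x := fun k hk => (hX k hk).1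
  have hXj : ∀ k, k < 9 → (k ≠ 6 → X k ∈ nb D j) ∧ (k = 6 → X k ∉ nb D j) := by
    intro k hk
    obtain ⟨hy, hye⟩ := hX k hk
    refine ⟨fun h => ?_, fun h hn => ?_⟩
    · obtain ⟨y', hy', hj', hye'⟩ := ((hc k hk).2.2 h : c k ∈ T)
      exact img_inj hD.grp hgood hx hy' hy (hye'.trans hye.symm) ▸ hj'
    · exact (hc k hk).2.1 ⟨X k, hy, hn, hye⟩ h
  set Xs : ℕ → G := fun k => if k = 9 then j else X k
  have hXs : ∀ k, k < 9 → Xs k = X k := fun k hk => if_neg (by omega)
  have hsq : ∀ z ∈ D, z * z = 1 := fun z hz => mul_self hD.set hz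
  -- the group at `x`
  let g' : ℕ → ↥(Subgroup.closure (nb D x)) := fun k =>
    if hk : k < 9 then ⟨X k, Subgroup.subset_closure (hXm k hk)⟩ else 1
  set q := QuotientGroup.mk' (Subgroup.center ↥(Subgroup.closure (nb D x)))
  have hq : ∀ w : List ℕ, (∀ a ∈ w, a < 9) → q (eval g' w) = e (eval c w) ∧ Subtype.val (eval g' w) = eval Xs w ∧
      ((∀ a ∈ w, a ≠ 6) → Commute (eval Xs w) j) := by
    intro w
    induction w with
    | nil => intro _; simp [eval]
    | cons a w ih =>
      intro h
      obtain ⟨h1, h2, h3⟩ := ih fun b hb => h b (List.mem_cons_of_mem _ hb)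
      have ha := h a (by simp)
      obtain ⟨hy, hye⟩ := hX a ha
      refine ⟨?_, ?_, fun h6 => ?_⟩
      · simp only [eval, map_mul, h1]
        congr 1
        simp only [g', dif_pos ha]
        exact hye
      · simp only [eval, Subgroup.coe_mul, h2, hXs a ha, g', dif_pos ha]
      · simp only [eval, hXs a ha]
        exact (h3 fun b hb => h6 b (List.mem_cons_of_mem _ hb)).mul_left
          ((hXj a ha).1 (h6 a (by simp))).2.2.symm
  have hrelone : ∀ (w : List ℕ) (n : ℕ), (∀ a ∈ w, a < 9) → (∀ a ∈ w, a ≠ 6) → eval c w ^ n = 1 →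
      eval Xs w ^ n = 1 := by
    intro w n hw h6 hn
    obtain ⟨h1, h2, h3⟩ := hq w hw
    have hker : q (eval g' w ^ n) = 1 := by rw [map_pow, h1, ← map_pow, hn, map_one]
    have hz := (QuotientGroup.eq_one_iff _).1 hker
    rcases hD.central x hx _ (eval g' w ^ n).2 (fun s hs =>
      congrArg Subtype.val (Subgroup.mem_center_iff.1 hz ⟨s, Subgroup.subset_closure hs⟩)) with k | k
    · rwa [SubgroupClass.coe_pow, h2] at k
    · rw [SubgroupClass.coe_pow, h2] at k
      exact absurd (k ▸ (h3 h6).pow_left n) hxj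
  have hfree : ∀ r ∈ Spor.coxRelators Spor.Fi23.edges ∪ {r | r ∈ Spor.Fi23.extra},
      FreeGroup.lift (fun y => Xs (node y)) r = 1 := by
    intro r hr
    rcases hr with ⟨y, -, z, -, rfl⟩ | hr
    · simp only [map_pow, map_mul, FreeGroup.lift_apply_of]
      by_cases hyz : y = z
      · subst hyz
        rw [show Spor.coxLabel Spor.Fi23.edges y y = 1 from if_pos rfl, pow_one]
        by_cases hy : y = .j
        · subst hy; exact hsq j hj
        · rw [hXs _ (node_lt y hy)]; exact hsq _ (hXm _ (node_lt y hy)).1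
      have hcom : ∀ a b : G, a ∈ D → b ∈ D → Commute a b → (a * b) ^ 2 = 1 := fun a b ha hb h => by
        rw [h.mul_pow, pow_two, pow_two, hsq a ha, hsq b hb, one_mul]
      by_cases hy : y = .j
      · subst hy
        have hz : z ≠ .j := fun h => hyz h.symm
        have hk := node_lt z hz
        rw [(label_j z hz).2, show Xs (node .j) = j from rfl, hXs _ hk]
        split_ifs with hg
        · subst hg
          exact cube_of_not_commute hD.set hj (hXm _ hk).1 fun h => (hXj 6 hk).2 rfl
            ⟨(hXm _ hk).1, fun e' => hxj (e' ▸ (hXm _ hk).2.2), h⟩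
        · exact hcom _ _ hj (hXm _ hk).1 ((hXj _ hk).1 (by cases z <;> simp_all [node])).2.2
      by_cases hz : z = .j
      · subst hz
        have hk := node_lt y hy
        rw [(label_j y hy).1, show Xs (node .j) = j from rfl, hXs _ hk]
        split_ifs with hg
        · subst hg
          exact cube_of_not_commute hD.set (hXm _ hk).1 hj fun h => (hXj 6 hk).2 rfl
            ⟨(hXm _ hk).1, fun e' => hxj (e' ▸ (hXm _ hk).2.2), h.symm⟩
        · exact hcom _ _ (hXm _ hk).1 hj ((hXj _ hk).1 (by cases y <;> simp_all [node])).2.2.symm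
      have hk := node_lt y hy
      have hl := node_lt z hz
      rw [label_inner y z hy hz, hXs _ hk, hXs _ hl]
      obtain ⟨hy1, hye⟩ := hX _ hk
      obtain ⟨hz1, hze⟩ := hX _ hl
      have hm := hcox _ hk _ hl
      have hlab : Fischer3T22.lab9 (node y) (node z) = 2 ∨ Fischer3T22.lab9 (node y) (node z) = 3 := by
        revert hyz hy hz
        cases y <;> cases z <;> intro hyz hy hz <;>
          first | exact absurd rfl hyz | exact absurd rfl hy | exact absurd rfl hz | exact Or.inl rfl | exact Or.inr rfl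
      have hme : (img hy1 * img hz1) ^ Fischer3T22.lab9 (node y) (node z) = 1 := by
        rw [hye, hze, ← map_mul, ← map_pow, hm, map_one]
      have hA : img hy1 * img hy1 = 1 := mul_self hE.1 (hD.img_mem hx hy1)
      have hB : img hz1 * img hz1 = 1 := mul_self hE.1 (hD.img_mem hx hz1)
      rcases hlab with h | h <;> rw [h] at hme ⊢
      · refine hcom _ _ hy1.1 hz1.1 ((img_commute hD.grp hgood hx hy1 hz1).1 ?_)
        have h' := mul_eq_one_iff_eq_inv.1 ((pow_two _).symm.trans hme)
        rwa [mul_inv_rev, inv_eq_of_mul_eq_one_right hA, inv_eq_of_mul_eq_one_right hB] at h'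
      · by_cases hcm : Commute (X (node y)) (X (node z))
        · have h2 : (img hy1 * img hz1) ^ 2 = 1 := by
            rw [((img_commute hD.grp hgood hx hy1 hz1).2 hcm).mul_pow, pow_two, pow_two, hA, hB, one_mul]
          rw [pow_succ, h2, one_mul, mul_eq_one_iff_eq_inv, inv_eq_of_mul_eq_one_right hB] at hme
          rw [img_inj hD.grp hgood hx hy1 hz1 hme, hsq _ hz1.1, one_pow]
        · exact cube_of_not_commute hD.set hy1.1 hz1.1 hcm
    · simp only [Set.mem_setOf_eq, Spor.Fi23.extra, List.mem_cons, List.not_mem_nil, or_false] at hr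
      have hinv : ∀ a, a < 9 → Xs a * Xs a = 1 := fun a ha => by rw [hXs a ha]; exact hsq _ (hXm a ha).1
      have h10 := hrelone Fischer3T22.spiderW 10 (by decide) (by decide) hspider
      have h9 := hrelone Fischer3T22.sevenW 9 (by decide) (by decide) hseven
      rw [← inv_inv (eval Xs Fischer3T22.spiderW),
        ← CosetTable.eval_reverse Xs _ (fun a ha => hinv a ((show ∀ a ∈ Fischer3T22.spiderW, a < 9 by decide) a ha)),
        inv_pow, inv_eq_one] at h10
      rw [← inv_inv (eval Xs Fischer3T22.sevenW),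
        ← CosetTable.eval_reverse Xs _ (fun a ha => hinv a ((show ∀ a ∈ Fischer3T22.sevenW, a < 9 by decide) a ha)),
        inv_pow, inv_eq_one] at h9
      rcases hr with rfl | rfl
      · simpa [map_pow, map_mul, eval, Fischer3T22.spiderW, node, mul_assoc] using h10
      · simpa [map_pow, map_mul, eval, Fischer3T22.sevenW, node, mul_assoc] using h9
  let φ : Spor.Fi23 →* G := PresentedGroup.toGroup (f := fun y => Xs (node y)) hfree
  have hφa : φ (PresentedGroup.of Spor.Fi23.Gen.a) = X 0 :=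
    (PresentedGroup.toGroup.of hfree).trans (hXs 0 (by norm_num))
  obtain ⟨hsimple, hcard⟩ := S1697.result
  haveI := hsimple
  have hinj : Function.Injective φ := by
    rcases φ.normal_ker.eq_bot_or_eq_top with h | h
    · exact (MonoidHom.ker_eq_bot_iff φ).mp h
    · exfalso
      have ha : φ (PresentedGroup.of Spor.Fi23.Gen.a) = 1 := MonoidHom.mem_ker.mp (by rw [h]; trivial)
      rw [hφa] at ha
      exact ne_one hD.set (hXm 0 (by norm_num)).1 ha
  have hbij : Function.Bijective φ :=
    (Nat.bijective_iff_injective_and_card φ).2 ⟨hinj, hcard.trans hD.card_G.symm⟩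
  refine ⟨MulEquiv.ofBijective φ hbij, ?_⟩
  rw [MulEquiv.ofBijective_apply]
  rw [hφa]
  exact (hXm 0 (by norm_num)).1

end Local23

end Cfsg.Agent.Lib.Fischer3T52.TwentyThree
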