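import Cfsg.Agent.Lib.M22Cover2.Count
import Cfsg.Agent.Lib.M22Cover2.NoCharacter

/-!
# In a double cover of a group of type M(22) as an involution centraliser, the other conjugates of the
involution are one lift of each member
-/

set_option autoImplicit false
set_option linter.unusedSectionVars false

namespace Cfsg.Agent.Lib.Fischer3T52.TwentyThree

open Cfsg Cfsg.Agent.Lib.M22Cover2 Cfsg.Agent.Lib.M22Struct66 Cfsg.Agent.Lib.Fischer3T52
open Cfsg.Agent.Lib.ThreeTransp

variable {G : Type*} [Group G] [Finite G] {d : G} {U : Type*} [Group U] [Finite U]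
  {E : Set U} {F : Type} [Field F] [Fintype F]
  {π : ↥(Subgroup.centralizer ({d} : Set G)) →* U} {hB : M22Cover2.Base E F}

/-- The conjugates of `d` other than `d` commuting with it. -/
def others (d : G) : Set G := {x | IsConj d x ∧ x ≠ d ∧ Commute d x}

theorem conj_sq (hdd : d * d = 1) {x : G} (hx : IsConj d x) : x * x = 1 := by
  obtain ⟨g, rfl⟩ := isConj_iff.1 hx
  rw [show g * d * g⁻¹ * (g * d * g⁻¹) = g * (d * d) * g⁻¹ by group, hdd, mul_one, mul_inv_cancel]

theorem conj_cent {c : G} (hc : c ∈ Subgroup.centralizer ({d} : Set G)) {x : G} (hx : x ∈ others d) :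
    c * x * c⁻¹ ∈ others d := by
  have hcd : c * d * c⁻¹ = d := by
    rw [Subgroup.mem_centralizer_singleton_iff.1 hc, mul_inv_cancel_right]
  refine ⟨hx.1.trans (isConj_iff.2 ⟨c, rfl⟩), fun h => hx.2.1 ?_, ?_⟩
  · exact mul_left_cancel (mul_right_cancel (h.trans hcd.symm))
  · rw [← hcd]; exact hx.2.2.map (MulAut.conj c).toMonoidHom

/-- What is used: the cover, its perfectness and a second conjugate in the centraliser. -/
structure Local (π : ↥(Subgroup.centralizer ({d} : Set G)) →* U) (hB : M22Cover2.Base E F) : Prop where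
  setup : Setup22 π hB
  perfect : commutator ↥(Subgroup.centralizer ({d} : Set G)) = ⊤
  nwc : ∃ g : G, g * d * g⁻¹ ∈ Subgroup.centralizer ({d} : Set G) ∧ g * d * g⁻¹ ≠ d

variable (hL : Local π hB)
include hL

theorem exists_rad : ∃ R, IsRad E R := by
  obtain ⟨R₀, R₁, R₂, W₁, W₂, H, s, hP⟩ := exists_pairFrame hB
  exact ⟨R₀, hP.rad⟩

theorem in_rad {R : Subgroup U} (hR : IsRad E R) :
    (∀ c : ↥(Subgroup.centralizer ({d} : Set G)), π c ∈ R → (c : G) ∈ others d → π c ∈ E ∧ π c ∈ R) ∧
    (∀ c c' : ↥(Subgroup.centralizer ({d} : Set G)), π c ∈ R → (c : G) ∈ others d → (c' : G) ∈ others d →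
      π c = π c' → c = c') ∧
    ∀ e ∈ E, e ∈ R → ∃ c : ↥(Subgroup.centralizer ({d} : Set G)), π c = e ∧ (c : G) ∈ others d := by
  have hS := hL.setup
  obtain ⟨cls, hD, hcls⟩ := hS.countData hR hL.nwc
  have h23 : (fusedSet d (lift22 π R)).ncard = 23 := by
    rcases hD.conclusion with h | h
    · exact h
    · refine absurd ?_ (hS.not_additive hL.perfect hR)
      intro a ha b hb
      have e : ∀ x ∈ lift22 π R, x ∈ fusedSet d (lift22 π R) ↔ IsConj d x :=
        fun x hx => ⟨fun k => k.2, fun k => ⟨hx, k⟩⟩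
      rw [← e _ ha, ← e _ hb, ← e _ (mul_mem ha hb)]
      exact h a ha b hb
  have hn := hD.card_fusedSet
  have c0 := hD.cases_card 0
  have c1 := hD.cases_card 1
  have c2 := hD.cases_card 2
  simp only [Matrix.cons_val] at c0 c1 c2
  have s0 := (hD.shape 0).2.1 (by simp only [Matrix.cons_val]; omega)
  have s1 := (hD.shape 1).1 (by omega)
  have s2 := (hD.shape 2).1 (by omega)
  have hzero : ∀ x ∈ fusedSet d (lift22 π R), x ≠ d → x ∈ cls 0 := by
    intro x hx hxd
    obtain ⟨i, hi⟩ := hD.cover x hx.1 (fun h => hD.one_notMem (h ▸ hx)) hxd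
    fin_cases i
    · exact hi
    · exact absurd hx (s1 x hi)
    · exact absurd hx (s2 x hi)
  have hfused : ∀ c : ↥(Subgroup.centralizer ({d} : Set G)), π c ∈ R → (c : G) ∈ others d →
      (c : G) ∈ fusedSet d (lift22 π R) := fun c hc ho => ⟨coe_mem_lift22.2 hc, ho.1⟩
  have hE : ∀ c : ↥(Subgroup.centralizer ({d} : Set G)), π c ∈ R → (c : G) ∈ others d → π c ∈ E ∧ π c ∈ R :=
    fun c hc ho => ⟨hcls _ (hzero _ (hfused c hc ho) ho.2.1) c.2, hc⟩
  have hinj : ∀ c c' : ↥(Subgroup.centralizer ({d} : Set G)), π c ∈ R → (c : G) ∈ others d →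
      (c' : G) ∈ others d → π c = π c' → c = c' := by
    intro c c' hc ho ho' he
    rcases hS.lift_cases he.symm with h | h
    · exact Subtype.ext h.symm
    · exfalso
      have h0 := hzero _ (hfused c hc ho) ho.2.1
      exact (s0 (c : G) h0).1 (h ▸ hfused c' (he ▸ hc) ho') (hfused c hc ho)
  refine ⟨hE, hinj, fun e he heR => ?_⟩
  let S : Set ↥(Subgroup.centralizer ({d} : Set G)) := {c | π c ∈ R ∧ (c : G) ∈ others d}
  have himg : π '' S = {y | y ∈ E ∧ y ∈ R} := by
    refine Set.eq_of_subset_of_ncard_le ?_ ?_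
    · rintro _ ⟨c, hc, rfl⟩; exact hE c hc.1 hc.2
    have hiS : Set.InjOn π S := fun c hc c' hc' h => hinj c c' hc.1 hc.2 hc'.2 h
    have hval : (Subtype.val : ↥(Subgroup.centralizer ({d} : Set G)) → G) '' S = cls 0 ∩ fusedSet d (lift22 π R) := by
      ext x
      constructor
      · rintro ⟨c, hc, rfl⟩; exact ⟨hzero _ (hfused c hc.1 hc.2) hc.2.2.1, hfused c hc.1 hc.2⟩
      · rintro ⟨h0, hx, hxd⟩
        obtain ⟨c, hc, rfl⟩ := hx
        exact ⟨c, ⟨hc, hxd, fun h => (hD.avoid 0).2 (h ▸ h0),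
          (Subgroup.mem_centralizer_singleton_iff.1 c.2).symm⟩, rfl⟩
    have hcard := congrArg Set.ncard hval
    rw [Set.ncard_image_of_injective _ Subtype.val_injective] at hcard
    rw [hB.ncard_members hR, hiS.ncard_image, hcard]
    omega
  obtain ⟨c, hc, hce⟩ := himg.symm ▸ (show e ∈ {y | y ∈ E ∧ y ∈ R} from ⟨he, heR⟩)
  exact ⟨c, hce, hc.2⟩

theorem moved {c : ↥(Subgroup.centralizer ({d} : Set G))} {R : Subgroup U} (hR : IsRad E R)
    (hc : π c * π c = 1) : ∃ h : ↥(Subgroup.centralizer ({d} : Set G)), π (h * c * h⁻¹) ∈ R := by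
  obtain ⟨u, hu⟩ := hB.exists_conj_into hR hc
  obtain ⟨h, rfl⟩ := hL.setup.cover.surj u
  exact ⟨h, by rwa [map_mul, map_mul, map_inv]⟩

/-- The other conjugates in the centraliser map to members. -/
theorem map_mem {c : ↥(Subgroup.centralizer ({d} : Set G))} (hc : (c : G) ∈ others d) : π c ∈ E := by
  obtain ⟨R, hR⟩ := exists_rad hL
  have h1 : c * c = 1 := Subtype.ext (conj_sq hL.setup.sq hc.1)
  obtain ⟨h, hh⟩ := moved hL hR (c := c) (by rw [← map_mul, h1, map_one])
  have hm : π (h * c * h⁻¹) ∈ E := ((in_rad hL hR).1 _ hh (conj_cent h.2 hc)).1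
  have := hB.charted.conj (π h)⁻¹ _ hm
  simpa [mul_assoc] using this

/-- Only one conjugate over each member. -/
theorem map_inj {c c' : ↥(Subgroup.centralizer ({d} : Set G))} (hc : (c : G) ∈ others d)
    (hc' : (c' : G) ∈ others d) (he : π c = π c') : c = c' := by
  obtain ⟨R, hR⟩ := exists_rad hL
  have h1 : c * c = 1 := Subtype.ext (conj_sq hL.setup.sq hc.1)
  obtain ⟨h, hh⟩ := moved hL hR (c := c) (by rw [← map_mul, h1, map_one])
  have := (in_rad hL hR).2.1 _ (h * c' * h⁻¹) hh (conj_cent h.2 hc) (conj_cent h.2 hc')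
    (by simp only [map_mul, map_inv, he])
  exact mul_left_cancel (mul_right_cancel this)

/-- Every member has a lift that is a conjugate of `d`. -/
theorem exists_lift {e : U} (he : e ∈ E) :
    ∃ c : ↥(Subgroup.centralizer ({d} : Set G)), π c = e ∧ (c : G) ∈ others d := by
  obtain ⟨R, hR⟩ := exists_rad hL
  obtain ⟨u, hu⟩ := hB.exists_conj_into hR (hB.sq_mem he)
  obtain ⟨c, hc, ho⟩ := (in_rad hL hR).2.2 _ (hB.charted.conj u e he) hu
  obtain ⟨h, rfl⟩ := hL.setup.cover.surj u
  refine ⟨h⁻¹ * c * h, ?_, ?_⟩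
  · rw [map_mul, map_mul, map_inv, hc]; group
  · have := conj_cent (inv_mem h.2) ho
    simpa using this

/-- Lifts of commuting members commute. -/
theorem commute_of_map {c c' : ↥(Subgroup.centralizer ({d} : Set G))} (hc : (c : G) ∈ others d)
    (hc' : (c' : G) ∈ others d) (h : Commute (π c) (π c')) : Commute c c' := by
  have := map_inj hL (c := c * c' * c⁻¹) (c' := c') (conj_cent c.2 hc') hc'
    (by rw [map_mul, map_mul, map_inv, h.eq, mul_inv_cancel_right])
  exact mul_inv_eq_iff_eq_mul.1 this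

/-- The other conjugates in the centraliser form a set of 3-transpositions. -/
theorem isSet_others : IsThreeTranspositionSet (others d) := by
  have hdd := hL.setup.sq
  refine ⟨fun x hx => orderOf_eq_prime (by rw [pow_two, conj_sq hdd hx.1]) fun h => ?_, fun x hx y hy => ?_⟩
  · obtain ⟨g, hg⟩ := isConj_iff.1 hx.1
    rw [h] at hg
    exact hL.setup.ne (conj_eq_one_iff.1 hg)
  · let cx : ↥(Subgroup.centralizer ({d} : Set G)) := ⟨x, Subgroup.mem_centralizer_singleton_iff.2 hx.2.2.eq.symm⟩
    let cy : ↥(Subgroup.centralizer ({d} : Set G)) := ⟨y, Subgroup.mem_centralizer_singleton_iff.2 hy.2.2.eq.symm⟩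
    have hex := map_mem hL (c := cx) hx
    have hey := map_mem hL (c := cy) hy
    by_cases hcom : Commute (π cx) (π cy)
    · have hxy : Commute cx cy := commute_of_map hL hx hy hcom
      refine Or.inl ?_
      rw [(show Commute x y from congrArg Subtype.val hxy.eq).mul_pow, pow_two, pow_two,
        conj_sq hdd hx.1, conj_sq hdd hy.1, one_mul]
    · have hxx : cx * cx = 1 := Subtype.ext (conj_sq hdd hx.1)
      have hyy : cy * cy = 1 := Subtype.ext (conj_sq hdd hy.1)
      -- `x y x` and `y x y` lie over one member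
      have hbr : cx * cy * cx = cy * cx * cy := by
        refine map_inj hL ?_ ?_ ?_
        · have := conj_cent cx.2 hy
          rwa [inv_eq_of_mul_eq_one_right (show (cx : G) * cx = 1 from congrArg Subtype.val hxx)] at this
        · have := conj_cent cy.2 hx
          rwa [inv_eq_of_mul_eq_one_right (show (cy : G) * cy = 1 from congrArg Subtype.val hyy)] at this
        · simp only [map_mul]; exact braid hB.charted.set hex hey hcom
      have hpow : (cx * cy) ^ 3 = 1 := by
        calc (cx * cy) ^ 3 = cx * cy * cx * (cy * cx * cy) := by simp only [pow_succ, pow_zero, one_mul, mul_assoc]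
          _ = (cy * cx * cy) * (cy * cx * cy) := by rw [hbr]
          _ = cy * cx * (cy * cy) * cx * cy := by group
          _ = 1 := by rw [hyy, mul_one, mul_assoc cy cx, hxx, mul_one, hyy]
      have hpow' : (x * y) ^ 3 = 1 := by simpa using congrArg Subtype.val hpow
      exact Or.inr hpow'

/-- The other conjugates generate the centraliser. -/
theorem closure_others : Subgroup.closure (others d) = Subgroup.centralizer ({d} : Set G) := by
  refine le_antisymm ((Subgroup.closure_le _).2 fun x hx =>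
    Subgroup.mem_centralizer_singleton_iff.2 hx.2.2.eq.symm) ?_
  set K : Subgroup ↥(Subgroup.centralizer ({d} : Set G)) := Subgroup.closure {c | (c : G) ∈ others d}
  have hK : ∀ c : ↥(Subgroup.centralizer ({d} : Set G)), ∃ k ∈ K, c = k ∨ c = k * zc d := by
    intro c
    have hle : (⊤ : Subgroup U) ≤ K.map π := hB.charted.grp.2.2 ▸ (Subgroup.closure_le _).2 fun e he => by
      obtain ⟨a, ha, ho⟩ := exists_lift hL he
      exact ⟨a, Subgroup.subset_closure ho, ha⟩
    obtain ⟨k, hk, hkc⟩ := hle (Subgroup.mem_top (π c))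
    exact ⟨k, hk, hL.setup.cover.eq_or c k hkc.symm⟩
  have hle : commutator ↥(Subgroup.centralizer ({d} : Set G)) ≤ K := by
    rw [commutator_def, Subgroup.commutator_le]
    intro a _ b _
    obtain ⟨k, hk, hka⟩ := hK a
    obtain ⟨l, hl, hlb⟩ := hK b
    have hz := hL.setup.cover.central
    have key : ∀ (p q : ↥(Subgroup.centralizer ({d} : Set G))), (p = k ∨ p = k * zc d) → (q = l ∨ q = l * zc d) → p * q * p⁻¹ * q⁻¹ = k * l * k⁻¹ * l⁻¹ := by
      have e1 : ∀ p : ↥(Subgroup.centralizer ({d} : Set G)), ∀ q, p * zc d * q * (p * zc d)⁻¹ = p * q * p⁻¹ := fun p q => by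
        rw [mul_inv_rev, mul_assoc p (zc d) q, ← hz q]; group
      have e2 : ∀ p q : ↥(Subgroup.centralizer ({d} : Set G)), p * (q * zc d) * p⁻¹ * (q * zc d)⁻¹ = p * q * p⁻¹ * q⁻¹ := fun p q => by
        rw [mul_inv_rev, show p * (q * zc d) * p⁻¹ = p * q * (zc d * p⁻¹) by group, ← hz p⁻¹]; group
      rintro p q (rfl | rfl) (rfl | rfl)
      exacts [rfl, e2 _ _, by rw [e1], by rw [e1]; exact e2 _ _]
    rw [commutatorElement_def, key a b hka hlb]
    exact mul_mem (mul_mem (mul_mem hk hl) (inv_mem hk)) (inv_mem hl)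
  rw [hL.perfect] at hle
  intro x hx
  have hmem : (⟨x, hx⟩ : ↥(Subgroup.centralizer ({d} : Set G))) ∈ K := hle (Subgroup.mem_top _)
  have hsub : K ≤ (Subgroup.closure (others d)).comap (Subgroup.centralizer ({d} : Set G)).subtype :=
    (Subgroup.closure_le _).2 fun c hc => Subgroup.subset_closure hc
  exact hsub hmem

end Cfsg.Agent.Lib.Fischer3T52.TwentyThree
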