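import Cfsg.Agent.Lib.Fischer3T52.TwentyThree.Lifts
import Cfsg.Agent.Lib.Fischer3T52.TwentyThree.Base
import Cfsg.Agent.Lib.Fischer3T52.TwentyThree.Recog.Group

/-!
# The conjugacy class of an involution with centraliser a double cover of a group of type M(22)

The local hypotheses of the recognition hold at every conjugate, so the class is a class of
3-transpositions with the local structure of type M(23).
-/

set_option autoImplicit false
set_option linter.unusedSectionVars false

namespace Cfsg.Agent.Lib.Fischer3T52.TwentyThree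

open Cfsg Cfsg.Agent.Lib.M22Cover2 Cfsg.Agent.Lib.M22Struct66 Cfsg.Agent.Lib.Fischer3T52
open Cfsg.Agent.Lib.ThreeTransp

variable {G : Type*} [Group G] [Finite G] {d : G} {U : Type*} [Group U] [Finite U]
  {E : Set U} {F : Type} [Field F] [Fintype F]
  {π : ↥(Subgroup.centralizer ({d} : Set G)) →* U} {hB : M22Cover2.Base E F}

/-- The same hypotheses hold at every conjugate. -/
theorem Local.at_conj (hL : Local π hB) {x : G} (hx : IsConj d x) :
    ∃ π' : ↥(Subgroup.centralizer ({x} : Set G)) →* U, Local π' hB := by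
  obtain ⟨g, rfl⟩ := isConj_iff.1 hx
  set x := g * d * g⁻¹ with hxdef
  have hmem : ∀ h : G, h ∈ Subgroup.centralizer ({x} : Set G) ↔ g⁻¹ * h * g ∈ Subgroup.centralizer ({d} : Set G) := by
    intro h
    rw [Subgroup.mem_centralizer_singleton_iff, Subgroup.mem_centralizer_singleton_iff]
    constructor
    · intro k
      calc g⁻¹ * h * g * d = g⁻¹ * (h * x) * g := by rw [hxdef]; group
        _ = d * (g⁻¹ * h * g) := by rw [k, hxdef]; group
    · intro k
      calc h * x = g * (g⁻¹ * h * g * d) * g⁻¹ := by rw [hxdef]; group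
        _ = x * h := by rw [k, hxdef]; group
  let φ : ↥(Subgroup.centralizer ({x} : Set G)) ≃* ↥(Subgroup.centralizer ({d} : Set G)) :=
    { toFun := fun h => ⟨g⁻¹ * h * g, (hmem h).1 h.2⟩
      invFun := fun c => ⟨g * c * g⁻¹, (hmem _).2 (by simp [mul_assoc])⟩
      left_inv := fun h => Subtype.ext (by simp [mul_assoc])
      right_inv := fun c => Subtype.ext (by simp [mul_assoc])
      map_mul' := fun a b => Subtype.ext (by simp [mul_assoc]) }
  refine ⟨π.comp φ.toMonoidHom, ⟨⟨?_, ?_, ?_⟩, ?_, ?_⟩⟩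
  · rw [hxdef, show g * d * g⁻¹ * (g * d * g⁻¹) = g * (d * d) * g⁻¹ by group, hL.setup.sq, mul_one, mul_inv_cancel]
  · exact fun h => hL.setup.ne (conj_eq_one_iff.1 h)
  · have hz : φ (zc x) = zc d := Subtype.ext (show g⁻¹ * (g * d * g⁻¹) * g = d by group)
    refine ⟨hL.setup.cover.surj.comp φ.surjective, fun h hh => ?_, fun h => φ.injective ?_, φ.injective ?_, ?_⟩
    · rcases hL.setup.cover.ker (φ h) hh with k | k
      · exact Or.inl (φ.injective (k.trans (map_one φ).symm))
      · exact Or.inr (φ.injective (k.trans hz.symm))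
    · rw [map_mul, map_mul, hz, hL.setup.cover.central]
    · rw [map_mul, map_one, hz, hL.setup.cover.sq]
    · show π (φ (zc x)) = 1
      rw [hz, hL.setup.cover.map_z]
  · have := map_derivedSeries_eq (f := φ.symm.toMonoidHom) φ.symm.surjective 1
    rw [derivedSeries_one, derivedSeries_one, hL.perfect, Subgroup.map_top_of_surjective _ φ.symm.surjective] at this
    exact this.symm
  · obtain ⟨k, hk, hne⟩ := hL.nwc
    have e : g * k * g⁻¹ * x * (g * k * g⁻¹)⁻¹ = g * (k * d * k⁻¹) * g⁻¹ := by rw [hxdef]; group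
    refine ⟨g * k * g⁻¹, (hmem _).2 ?_, fun h => hne ?_⟩
    · rw [e]; simpa [mul_assoc] using hk
    · rw [e] at h
      exact mul_left_cancel (mul_right_cancel (h.trans hxdef))

variable (hL : Local π hB)
include hL

theorem nb_eq_others : nb (conjugatesOf d) d = others d := by
  ext y
  exact ⟨fun h => ⟨h.1, h.2.1, h.2.2⟩, fun h => ⟨h.1, h.2.1, h.2.2⟩⟩

/-- The point of the quotient below a neighbour. -/
noncomputable def below (_h : Local π hB) {y : G} (hy : y ∈ nb (conjugatesOf d) d) : U :=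
  π ⟨y, Subgroup.mem_centralizer_singleton_iff.2 hy.2.2.eq.symm⟩

theorem below_mem {y : G} (hy : y ∈ nb (conjugatesOf d) d) : below hL hy ∈ E :=
  map_mem hL (nb_eq_others hL ▸ hy : y ∈ others d)

theorem below_inj {y y' : G} (hy : y ∈ nb (conjugatesOf d) d) (hy' : y' ∈ nb (conjugatesOf d) d)
    (h : below hL hy = below hL hy') : y = y' :=
  congrArg Subtype.val (map_inj hL (nb_eq_others hL ▸ hy : y ∈ others d) (nb_eq_others hL ▸ hy' : y' ∈ others d) h)

theorem below_commute {y y' : G} (hy : y ∈ nb (conjugatesOf d) d) (hy' : y' ∈ nb (conjugatesOf d) d) :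
    Commute y y' ↔ Commute (below hL hy) (below hL hy') := by
  constructor
  · intro h
    exact (show Commute (⟨y, Subgroup.mem_centralizer_singleton_iff.2 hy.2.2.eq.symm⟩ :
      ↥(Subgroup.centralizer ({d} : Set G))) ⟨y', Subgroup.mem_centralizer_singleton_iff.2 hy'.2.2.eq.symm⟩ from
      Subtype.ext h.eq).map π
  · intro h
    exact congrArg Subtype.val (commute_of_map hL (nb_eq_others hL ▸ hy : y ∈ others d)
      (nb_eq_others hL ▸ hy' : y' ∈ others d) h).eq

theorem below_nb {y y' : G} (hy : y ∈ nb (conjugatesOf d) d) (hy' : y' ∈ nb (conjugatesOf d) d) :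
    y' ∈ nb (conjugatesOf d) y ↔ below hL hy' ∈ nb E (below hL hy) := by
  constructor
  · intro h
    exact ⟨below_mem hL hy', fun e => h.2.1 (below_inj hL hy' hy e), (below_commute hL hy hy').1 h.2.2⟩
  · intro h
    refine ⟨hy'.1, ?_, (below_commute hL hy hy').2 h.2.2⟩
    rintro rfl
    exact h.2.1 rfl

theorem exists_above {e : U} (he : e ∈ E) : ∃ (y : G) (hy : y ∈ nb (conjugatesOf d) d), below hL hy = e := by
  obtain ⟨c, hc, ho⟩ := exists_lift hL he
  exact ⟨c, nb_eq_others hL ▸ ho, hc⟩

theorem ncard_below (M : Set G) (hM : M ⊆ nb (conjugatesOf d) d) (N : Set U) (hN : N ⊆ E)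
    (h : ∀ y (hy : y ∈ nb (conjugatesOf d) d), y ∈ M ↔ below hL hy ∈ N) : M.ncard = N.ncard := by
  refine Set.ncard_congr (fun y hy => below hL (hM hy)) (fun y hy => (h y (hM hy)).1 hy)
    (fun y y' hy hy' e => below_inj hL (hM hy) (hM hy') e) fun X hX => ?_
  obtain ⟨y, hy, rfl⟩ := exists_above hL (hN hX)
  exact ⟨y, (h y hy).2 hX, rfl⟩

theorem mem_closure_nb : Subgroup.closure (nb (conjugatesOf d) d) = Subgroup.centralizer ({d} : Set G) := by
  rw [nb_eq_others hL]; exact closure_others hL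

theorem central_one_or_self {z : G} (hzd : Commute z d)
    (hz : ∀ y ∈ nb (conjugatesOf d) d, Commute y z) : z = 1 ∨ z = d := by
  let c : ↥(Subgroup.centralizer ({d} : Set G)) := ⟨z, Subgroup.mem_centralizer_singleton_iff.2 hzd.eq⟩
  have hcen : π c ∈ Subgroup.center U := mem_center_of_forall_commute hB.charted.grp.2.2 fun e he => by
    obtain ⟨y, hy, rfl⟩ := exists_above hL he
    exact ((show Commute (⟨y, Subgroup.mem_centralizer_singleton_iff.2 hy.2.2.eq.symm⟩ :
      ↥(Subgroup.centralizer ({d} : Set G))) c from Subtype.ext (hz y hy).eq).map π).symm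
  rw [hB.m22.1, Subgroup.mem_bot] at hcen
  rcases hL.setup.cover.ker c hcen with h | h
  exacts [Or.inl (congrArg Subtype.val h), Or.inr (congrArg Subtype.val h)]

theorem two_ne {a b : G} (ha : a ∈ nb (conjugatesOf d) d) (hb : b ∈ nb (conjugatesOf d) d) : a * b ≠ d := by
  intro h
  have h' : below hL ha * below hL hb = 1 := by
    rw [below, below, ← map_mul, show (⟨a, _⟩ * ⟨b, _⟩ : ↥(Subgroup.centralizer ({d} : Set G))) = zc d from
      Subtype.ext h, hL.setup.cover.map_z]
  have hab := below_inj hL ha hb (by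
    rw [mul_eq_one_iff_eq_inv, inv_eq_of_mul_eq_one_right (hB.sq_mem (below_mem hL hb))] at h'
    exact h')
  subst hab
  rw [conj_sq hL.setup.sq ha.1] at h
  exact hL.setup.ne h.symm

theorem short_ne {l : List G} (hnd : l.Nodup) (h1 : 1 ≤ l.length) (h5 : l.length ≤ 5)
    (hm : ∀ a ∈ l, a ∈ nb (conjugatesOf d) d) (hc : ∀ a ∈ l, ∀ b ∈ l, Commute a b) : l.prod ≠ d := by
  intro h
  let m : List U := l.attach.map fun a => below hL (hm a.1 a.2)
  refine hB.charted.toCtx.noSmall (n := l.length) h1 h5 m ?_ (by simp [m]) ?_ ?_ ?_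
  · refine List.Nodup.map_on (fun a _ b _ e => Subtype.ext (below_inj hL _ _ e)) ?_
    exact List.nodup_attach.2 hnd
  · intro a ha
    obtain ⟨b, -, rfl⟩ := List.mem_map.1 ha
    exact below_mem hL _
  · intro a ha b hb
    obtain ⟨a', -, rfl⟩ := List.mem_map.1 ha
    obtain ⟨b', -, rfl⟩ := List.mem_map.1 hb
    exact (below_commute hL _ _).1 (hc _ a'.2 _ b'.2)
  · let lc : List ↥(Subgroup.centralizer ({d} : Set G)) :=
      l.attach.map fun a => ⟨a.1, Subgroup.mem_centralizer_singleton_iff.2 (hm a.1 a.2).2.2.eq.symm⟩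
    have hval : (lc.map Subtype.val) = l := by simp [lc, Function.comp_def]
    have hz : lc.prod = zc d := Subtype.ext (by
      rw [Subgroup.val_list_prod, hval]; exact h)
    have : m = lc.map π := by simp [m, lc, below, Function.comp_def]
    rw [this, ← map_list_prod, hz, hL.setup.cover.map_z]

theorem exists_counted : ∃ (F' : Type) (_ : Field F') (_ : Fintype F'), M22Struct66.Counted E F' :=
  M22Struct66.exists_counted hB.charted.grp hB.charted.prim hB.m22

theorem common_nb {a b : G} (ha : a ∈ nb (conjugatesOf d) d) (hb : b ∈ nb (conjugatesOf d) d) :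
    ∃ c ∈ nb (conjugatesOf d) d, c ≠ a ∧ c ≠ b ∧ Commute c a ∧ Commute c b := by
  obtain ⟨F', _, _, hQ⟩ := exists_counted hL
  have hA := below_mem hL ha
  have hB' := below_mem hL hb
  have hne : ∃ e, e ∈ nb E (below hL ha) ∧ e ≠ below hL hb ∧ Commute e (below hL hb) := by
    by_cases hab : Commute (below hL ha) (below hL hb)
    · by_cases he : below hL hb = below hL ha
      · obtain ⟨e, he'⟩ : (nb E (below hL ha)).Nonempty := Set.nonempty_of_ncard_ne_zero
          (ne_of_eq_of_ne (hQ.toCharted.ncard_nb hA) (by norm_num))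
        exact ⟨e, he', he.symm ▸ he'.2.1, he.symm ▸ he'.2.2.symm⟩
      · obtain ⟨e, he1, he2⟩ : (com2 E (below hL ha) (below hL hb)).Nonempty := Set.nonempty_of_ncard_ne_zero
          (ne_of_eq_of_ne (hQ.toCharted.ncard_com2_commute hA ⟨hB', he, hab⟩) (by norm_num))
        exact ⟨e, he1, he2.2.1, he2.2.2.symm⟩
    · obtain ⟨e, he1, he2⟩ : (com2 E (below hL ha) (below hL hb)).Nonempty := Set.nonempty_of_ncard_ne_zero
        (ne_of_eq_of_ne (hQ.com126 _ hA _ hB' hab) (by norm_num))
      exact ⟨e, he1, he2.2.1, he2.2.2.symm⟩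
  obtain ⟨e, he, heb, hec⟩ := hne
  obtain ⟨c, hc, rfl⟩ := exists_above hL he.1
  refine ⟨c, hc, ?_, ?_, (below_commute hL hc ha).2 he.2.2.symm, (below_commute hL hc hb).2 hec⟩
  · rintro rfl; exact he.2.1 rfl
  · rintro rfl; exact heb rfl

theorem com2_below {a y : G} (ha : a ∈ nb (conjugatesOf d) d) (hy : y ∈ nb (conjugatesOf d) d) :
    y ∈ com2 (conjugatesOf d) d a ↔ below hL hy ∈ nb E (below hL ha) :=
  ⟨fun h => (below_nb hL ha hy).1 h.2, fun h => ⟨hy, (below_nb hL ha hy).2 h⟩⟩

theorem ncard_com2 {a : G} (ha : a ∈ nb (conjugatesOf d) d) :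
    (com2 (conjugatesOf d) d a).ncard = 693 := by
  obtain ⟨F', _, _, hQ⟩ := exists_counted hL
  rw [ncard_below hL _ Set.inter_subset_left (nb E (below hL ha)) (fun X hX => hX.1)
    fun y hy => com2_below hL ha hy]
  exact hQ.toCharted.ncard_nb (below_mem hL ha)

theorem spread {a y y' : G} (ha : a ∈ nb (conjugatesOf d) d) (hy : y ∈ com2 (conjugatesOf d) d a)
    (hy' : y' ∈ com2 (conjugatesOf d) d a) (hc : ¬ Commute y y') :
    ∃ u ∈ com2 (conjugatesOf d) d a, u ≠ y ∧ Commute y u ∧ ¬ Commute u y' := by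
  obtain ⟨F', _, _, hQ⟩ := exists_counted hL
  have hA := below_mem hL ha
  have hY : below hL hy.1 ∈ nb E (below hL ha) := (com2_below hL ha hy.1).1 hy
  have hY' : below hL hy'.1 ∈ nb E (below hL ha) := (com2_below hL ha hy'.1).1 hy'
  have hnc : ¬ Commute (below hL hy.1) (below hL hy'.1) := fun h => hc ((below_commute hL hy.1 hy'.1).2 h)
  have h180 := hQ.toCharted.ncard_com2_commute hA hY
  have h45 := hQ.toCharted.ncard_com2_nb (below_mem hL hy.1) (below_mem hL hy'.1) hnc
    (u := below hL ha) ⟨⟨hA, hY.2.1.symm, hY.2.2.symm⟩, hA, hY'.2.1.symm, hY'.2.2.symm⟩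
  obtain ⟨e, he, hne⟩ : ∃ e ∈ com2 E (below hL ha) (below hL hy.1), ¬ Commute e (below hL hy'.1) := by
    by_contra! h
    have hsub : com2 E (below hL ha) (below hL hy.1) ⊆
        com2 E (below hL hy.1) (below hL hy'.1) ∩ nb E (below hL ha) := fun e he =>
      ⟨⟨he.2, he.1.1, fun k => hnc (k ▸ he.2.2.2), (h e he).symm⟩, he.1⟩
    have := Set.ncard_le_ncard hsub
    omega
  obtain ⟨u, hu, rfl⟩ := exists_above hL he.1.1
  refine ⟨u, (com2_below hL ha hu).2 he.1, ?_, (below_commute hL hy.1 hu).2 he.2.2.2,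
    fun h => hne ((below_commute hL hu hy'.1).1 h)⟩
  rintro rfl
  exact he.2.2.1 rfl

theorem triple_nonempty {a c : G} (ha : a ∈ nb (conjugatesOf d) d) (hc : c ∈ com2 (conjugatesOf d) d a) :
    (com2 (conjugatesOf d) d a ∩ nb (conjugatesOf d) c).Nonempty := by
  obtain ⟨F', _, _, hQ⟩ := exists_counted hL
  obtain ⟨e, he1, he2⟩ : (com2 E (below hL ha) (below hL hc.1)).Nonempty := Set.nonempty_of_ncard_ne_zero
    (ne_of_eq_of_ne (hQ.toCharted.ncard_com2_commute (below_mem hL ha) ((com2_below hL ha hc.1).1 hc)) (by norm_num))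
  obtain ⟨w, hw, rfl⟩ := exists_above hL he1.1
  exact ⟨w, (com2_below hL ha hw).2 he1, (below_nb hL hc.1 hw).2 he2⟩

theorem self_sq {a n : G} (ha : a ∈ nb (conjugatesOf d) d) (hnd : Commute n d) (hna : Commute n a)
    (hn : ∀ y ∈ com2 (conjugatesOf d) d a, Commute n y) : n * n = 1 := by
  let c : ↥(Subgroup.centralizer ({d} : Set G)) := ⟨n, Subgroup.mem_centralizer_singleton_iff.2 hnd.eq⟩
  let ca : ↥(Subgroup.centralizer ({d} : Set G)) := ⟨a, Subgroup.mem_centralizer_singleton_iff.2 ha.2.2.eq.symm⟩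
  have hs : ∀ e ∈ {e : U | e ∈ E ∧ e ≠ π ca ∧ Commute (π ca) e}, Commute e (π c) := by
    intro e he
    obtain ⟨y, hy, rfl⟩ := exists_above hL he.1
    have hy2 : y ∈ com2 (conjugatesOf d) d a := (com2_below hL ha hy).2 he
    exact ((show Commute c (⟨y, Subgroup.mem_centralizer_singleton_iff.2 hy.2.2.eq.symm⟩ :
      ↥(Subgroup.centralizer ({d} : Set G))) from Subtype.ext (hn y hy2).eq).map π).symm
  have hcc : c * c = 1 := by
    rcases M23Struct19.central_base hB.charted.grp hB.m22 (below_mem hL ha)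
      ((show Commute c ca from Subtype.ext hna.eq).map π) hs with h | h
    · rcases hL.setup.cover.ker c h with k | k
      · rw [k, mul_one]
      · rw [k, hL.setup.cover.sq]
    · have haa : ca * ca = 1 := Subtype.ext (conj_sq hL.setup.sq ha.1)
      rcases hL.setup.cover.eq_or c ca h with k | k
      · rw [k, haa]
      · rw [k, (hL.setup.cover.commute_z ca).symm.mul_mul_mul_comm, haa, hL.setup.cover.sq, one_mul]
  exact congrArg Subtype.val hcc

theorem nb_trans {a b : G} (ha : a ∈ nb (conjugatesOf d) d) (hb : b ∈ nb (conjugatesOf d) d) :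
    ∃ g, Commute g d ∧ g * a * g⁻¹ = b := by
  obtain ⟨u, hu⟩ := hB.charted.prim.1 _ (below_mem hL ha) _ (below_mem hL hb)
  obtain ⟨c, rfl⟩ := hL.setup.cover.surj u
  refine ⟨c, Subgroup.mem_centralizer_singleton_iff.1 c.2, ?_⟩
  exact congrArg Subtype.val (map_inj hL
    (c := c * ⟨a, Subgroup.mem_centralizer_singleton_iff.2 ha.2.2.eq.symm⟩ * c⁻¹)
    (c' := ⟨b, Subgroup.mem_centralizer_singleton_iff.2 hb.2.2.eq.symm⟩)
    (conj_cent c.2 (nb_eq_others hL ▸ ha : a ∈ others d)) (nb_eq_others hL ▸ hb : b ∈ others d)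
    (by rw [map_mul, map_mul, map_inv]; exact hu))

theorem nb_nonempty' : (nb (conjugatesOf d) d).Nonempty := by
  obtain ⟨g, hg, hne⟩ := hL.nwc
  exact ⟨g * d * g⁻¹, isConj_iff.2 ⟨g, rfl⟩, hne, (Subgroup.mem_centralizer_singleton_iff.1 hg).symm⟩

/-- The quotient at `d` is the group of type M(22) with its class. -/
theorem quot_type : IsOfTypeM22
    (↥(Subgroup.closure (nb (conjugatesOf d) d)) ⧸ Subgroup.center ↥(Subgroup.closure (nb (conjugatesOf d) d)))
    (Products.nbrImage (conjugatesOf d) d) := by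
  let ι := MulEquiv.subgroupCongr (mem_closure_nb hL)
  let ψ := π.comp ι.toMonoidHom
  have hs : Function.Surjective ψ := hL.setup.cover.surj.comp ι.surjective
  have hk : ψ.ker = Subgroup.center ↥(Subgroup.closure (nb (conjugatesOf d) d)) := by
    ext x
    rw [MonoidHom.mem_ker, Subgroup.mem_center_iff]
    constructor
    · intro h g
      apply ι.injective
      rcases hL.setup.cover.ker (ι x) h with k | k <;> rw [map_mul, map_mul, k]
      · rw [one_mul, mul_one]
      · exact hL.setup.cover.central _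
    · intro h
      have hd : Commute (x : G) d := Subgroup.mem_centralizer_singleton_iff.1 (ι x).2
      rcases central_one_or_self hL hd fun y hy =>
          congrArg Subtype.val (h ⟨y, Subgroup.subset_closure hy⟩) with k | k
      · rw [show x = 1 from Subtype.ext k, map_one]
      · show π (ι x) = 1
        rw [show ι x = zc d from Subtype.ext k, hL.setup.cover.map_z]
  let e := (QuotientGroup.quotientMulEquivOfEq hk.symm).trans (QuotientGroup.quotientKerEquivOfSurjective ψ hs)
  have he : ∀ x, e (QuotientGroup.mk x) = ψ x := fun x => rfl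
  convert M23Struct19.isOfTypeM22_congr e.symm hB.m22
  ext X
  constructor
  · rintro ⟨⟨y, hy'⟩, hy, rfl⟩
    exact ⟨below hL hy, below_mem hL hy, e.symm_apply_eq.2 (he ⟨y, hy'⟩).symm⟩
  · rintro ⟨v, hv, rfl⟩
    obtain ⟨y, hy, rfl⟩ := exists_above hL hv
    exact ⟨⟨y, Subgroup.subset_closure hy⟩, hy, e.injective ((he _).trans (e.apply_symm_apply _).symm)⟩

/-- The local hypotheses of the recognition. -/
theorem recogHyp : Recog.Hyp (conjugatesOf d) := by
  have hdd := hL.setup.sq
  have key : ∀ x ∈ conjugatesOf d, conjugatesOf x = conjugatesOf d ∧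
      ∃ π' : ↥(Subgroup.centralizer ({x} : Set G)) →* U, Local π' hB := fun x hx =>
    ⟨(IsConj.conjugatesOf_eq hx).symm, hL.at_conj hx⟩
  refine
    { sq := fun x hx => conj_sq hdd hx
      ne_one := fun x hx h => hL.setup.ne (isConj_one_left.1 (h ▸ hx : IsConj d 1))
      conj := fun g x hx => IsConj.trans hx (isConj_iff.2 ⟨g, rfl⟩)
      trans := fun x hx y hy => isConj_iff.1 ((IsConj.symm hx).trans hy)
      nbset := ?_, gen := ?_, perfect := ?_, central := ?_, two := ?_, short := ?_, nbtrans := ?_,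
      common := ?_, nonempty := ?_, com2_odd := ?_, spread := ?_, triple := ?_, self := ?_ } <;>
    intro x hx <;> obtain ⟨e, π', hL'⟩ := key x hx <;> (try rw [← e])
  · rw [nb_eq_others hL']; exact isSet_others hL'
  · exact mem_closure_nb hL'
  · exact hL'.perfect
  · exact fun z hz h => central_one_or_self hL' hz h
  · exact fun a ha b hb => two_ne hL' ha hb
  · exact fun l h1 h2 h3 h4 h5 => short_ne hL' h1 h2 h3 h4 h5
  · exact fun a ha b hb => nb_trans hL' ha hb
  · exact fun a ha b hb => common_nb hL' ha hb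
  · exact nb_nonempty' hL'
  · exact fun a ha => by rw [ncard_com2 hL' ha]; decide
  · exact fun a ha y hy y' hy' hc => spread hL' ha hy hy' hc
  · exact fun a ha c hc => triple_nonempty hL' ha hc
  · exact fun a ha n h1 h2 h3 => self_sq hL' ha h1 h2 h3

/-- The class has the local structure of type M(23). -/
theorem local23 : Local23 (conjugatesOf d) := by
  have hH := recogHyp hL
  refine
    { grp := hH.isGroup mem_conjugatesOf_self
      one_class := hH.trans
      two := ?_
      cent := fun x hx => (hH.gen x hx).symm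
      perfect := fun x hx => ?_
      central := fun x hx z hz h => hH.central x hx z
        (Subgroup.mem_centralizer_singleton_iff.1 (hH.gen x hx ▸ hz)) h
      quot22 := fun x hx => ?_ }
  · obtain ⟨g, hg, hne⟩ := hL.nwc
    exact ⟨d, mem_conjugatesOf_self, g * d * g⁻¹, isConj_iff.2 ⟨g, rfl⟩, hne.symm⟩
  · rw [hH.gen x hx]; exact hH.perfect x hx
  · obtain ⟨π', hL'⟩ := hL.at_conj hx
    rw [IsConj.conjugatesOf_eq hx]
    exact quot_type hL'

end Cfsg.Agent.Lib.Fischer3T52.TwentyThree
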