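import Cfsg.Agent.Lib.Fischer3T52.TwentyThree.Provider
import Cfsg.Agent.Lib.Fischer3T52.TwentyThree.IsoFi23
import Cfsg.Agent.Lib.Fischer3T98.Exist23

/-!
# Type M(23) for a class with the local hypotheses
-/

set_option autoImplicit false
set_option linter.unusedSectionVars false

namespace Cfsg.Agent.Lib.Fischer3T52.TwentyThree

open Cfsg Cfsg.Agent.Lib.ThreeTransp
open Cfsg.Agent.Lib.M23Struct19 (quotCenterCongr closureCongr nbr_image_equiv isOfTypeM22_congr)

universe u v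

/-- Type M(23) is carried along isomorphisms. -/
theorem isOfTypeM23_congr {A : Type u} {B : Type v} [Group A] [Group B] (e : A ≃* B) {E : Set A}
    (h : IsOfTypeM23 A E) : IsOfTypeM23 B (e '' E) := by
  obtain ⟨hZ, d, hd, c, hc, hnc, h22, c₃, hc₃, Q, hQ1, hQ2, ⟨r⟩⟩ := h
  refine ⟨?_, e d, ⟨d, hd, rfl⟩, e c, ⟨c, hc, rfl⟩, fun hh => hnc (by simpa using hh.map e.symm), ?_,
    c₃, hc₃, Q, hQ1, hQ2, ⟨(quotCenterCongr (closureCongr e _ _ ?_)).symm.trans r⟩⟩
  · rw [Subgroup.eq_bot_iff_forall]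
    intro z hz
    have : e.symm z ∈ Subgroup.center A := Subgroup.mem_center_iff.2 fun g => e.injective (by
      simpa using Subgroup.mem_center_iff.1 hz (e g))
    rw [hZ, Subgroup.mem_bot] at this
    simpa using congrArg e this
  · have h' := isOfTypeM22_congr (quotCenterCongr (closureCongr e _ _ (nbr_image_equiv e E d))) h22
    convert h' using 1
    ext X
    constructor
    · rintro ⟨⟨y, hy'⟩, hy, rfl⟩
      obtain ⟨x, hx, rfl⟩ := (Set.ext_iff.1 (nbr_image_equiv e E d) y).2 hy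
      exact ⟨_, ⟨⟨x, Subgroup.subset_closure hx⟩, hx, rfl⟩, rfl⟩
    · rintro ⟨_, ⟨⟨x, hx'⟩, hx, rfl⟩, rfl⟩
      exact ⟨⟨e x, Subgroup.subset_closure ((Set.ext_iff.1 (nbr_image_equiv e E d) (e x)).1 ⟨x, hx, rfl⟩)⟩,
        (Set.ext_iff.1 (nbr_image_equiv e E d) (e x)).1 ⟨x, hx, rfl⟩, rfl⟩
  · rw [Set.image_inter e.injective, nbr_image_equiv, nbr_image_equiv]

/-- The local hypotheses give type M(23). -/
theorem Local23.isOfTypeM23 {G : Type*} [Group G] [Finite G] {D : Set G} (hD : Local23 D) :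
    IsOfTypeM23 G D := by
  obtain ⟨φ, hφ⟩ := hD.exists_iso_fi23
  obtain ⟨M⟩ := Fischer3T98.Fi23.exists_act
  have hgn : IsConj Fischer3T98.Fi23.zc (PresentedGroup.of Spor.Fi23.Gen.a) :=
    (Fischer3T98.Fi23.gn_nbr M ⟨0, by norm_num⟩ (by simp)).1
  have himg : φ '' Fischer3T98.Fi23.cls = D := by
    ext y
    constructor
    · rintro ⟨z, hz, rfl⟩
      obtain ⟨g, rfl⟩ := isConj_iff.1 ((IsConj.symm hgn).trans (show IsConj _ z from hz))
      rw [map_mul, map_mul, map_inv]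
      exact hD.conj _ _ hφ
    · intro hy
      obtain ⟨g, rfl⟩ := hD.one_class _ hφ y hy
      refine ⟨φ.symm g * PresentedGroup.of Spor.Fi23.Gen.a * (φ.symm g)⁻¹,
        hgn.trans (isConj_iff.2 ⟨_, rfl⟩), ?_⟩
      rw [map_mul, map_mul, map_inv, MulEquiv.apply_symm_apply]
  exact himg ▸ isOfTypeM23_congr φ (Fischer3T98.Fi23.isOfTypeM23 M)

end Cfsg.Agent.Lib.Fischer3T52.TwentyThree
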